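import Groth.Agent.RootCoverLib.Props
import Groth.Agent.ParaFLib.TensorPow

/-! The root cover of an invertible module of exact order is connected. -/

set_option autoImplicit false
set_option linter.style.haveILetI false
set_option backward.isDefEq.respectTransparency false
set_option backward.isDefEq.respectTransparency.types false
set_option backward.defeqAttrib.useBackward true

universe u

open CategoryTheory CategoryTheory.Limits AlgebraicGeometry TopologicalSpace Opposite Polynomial
open Groth.Agent.ParaFLib Groth.Agent.AmpleLib Groth.Agent.PullbackMod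

noncomputable section

namespace Groth.Agent.RootCoverLib

/-- A nonempty scheme without nontrivial idempotent functions is connected. -/
theorem connectedSpace_of_idem {Y : Scheme.{u}} [Nonempty Y]
    (h : ∀ e : Γ(Y, ⊤), IsIdempotentElem e → e = 0 ∨ e = 1) : ConnectedSpace Y := by
  haveI : PreconnectedSpace Y := by
    refine preconnectedSpace_iff_clopen.mpr fun C hC => ?_
    let U : ULift.{u} Bool → Y.Opens := fun b => cond b.down ⟨C, hC.2⟩ ⟨Cᶜ, hC.1.isOpen_compl⟩
    have hU : iSup U = ⊤ := top_unique fun y _ => by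
      by_cases hy : y ∈ C
      · exact Opens.mem_iSup.2 ⟨⟨true⟩, hy⟩
      · exact Opens.mem_iSup.2 ⟨⟨false⟩, hy⟩
    obtain ⟨e, he, -⟩ := Y.sheaf.existsUnique_gluing' U ⊤ (fun b => homOfLE le_top) hU.ge
      (fun b => cond b.down (1 : Γ(Y, U b)) 0) (by
        rintro ⟨b⟩ ⟨b'⟩
        cases b <;> cases b'
        · rfl
        · haveI : Subsingleton Γ(Y, U ⟨false⟩ ⊓ U ⟨true⟩) := by
            rw [show U ⟨false⟩ ⊓ U ⟨true⟩ = ⊥ from Opens.ext (Set.compl_inter_self C)]
            infer_instance
          exact @Subsingleton.elim _ this _ _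
        · haveI : Subsingleton Γ(Y, U ⟨true⟩ ⊓ U ⟨false⟩) := by
            rw [show U ⟨true⟩ ⊓ U ⟨false⟩ = ⊥ from Opens.ext (Set.inter_compl_self C)]
            infer_instance
          exact @Subsingleton.elim _ this _ _
        · rfl)
    have hmem : ∀ (b : ULift.{u} Bool) (y : Y) (hy : y ∈ U b),
        Y.presheaf.germ ⊤ y trivial e = cond b.down 1 0 := by
      intro b y hy
      have h1 : Y.presheaf.germ (U b) y hy (cond b.down (1 : Γ(Y, U b)) 0) = cond b.down 1 0 := by
        obtain ⟨_ | _⟩ := b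
        · exact map_zero _
        · exact map_one _
      rw [← h1, ← he b]
      erw [TopCat.Presheaf.germ_res_apply]
    have hidem : IsIdempotentElem e := by
      refine TopCat.Presheaf.section_ext Y.sheaf _ _ _ fun y hy => ?_
      show Y.presheaf.germ ⊤ y trivial (e * e) = Y.presheaf.germ ⊤ y trivial e
      rw [map_mul]
      obtain ⟨b, hb⟩ := Opens.mem_iSup.1 (hU.ge (Opens.mem_top y))
      rw [hmem b y hb]
      obtain ⟨_ | _⟩ := b
      · exact mul_zero _
      · exact one_mul _
    rcases h e hidem with h0 | h0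
    · refine Or.inl (Set.eq_empty_iff_forall_notMem.mpr fun y hy => ?_)
      have := hmem ⟨true⟩ y hy
      rw [h0, map_zero] at this
      exact zero_ne_one this
    · refine Or.inr (Set.eq_univ_iff_forall.mpr fun y => ?_)
      by_contra hy
      have := hmem ⟨false⟩ y hy
      rw [h0, map_one] at this
      exact one_ne_zero this
  exact ⟨inferInstance⟩

variable {S : Scheme.{u}} {L : S.Modules} {d : ℕ} (φ : CohB1.tensorPow L d ≅ Coh.structureModule S)

/-- The root in the ring over an open. -/
abbrev root' (U : S.Opens) (e : Γ(L, U)) : ringOn φ.hom U :=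
  Ideal.Quotient.mk _ (SymmetricAlgebra.ι Γ(S, U) Γ(L, U) e)

variable [Coh.IsQCoh L]

theorem exists_basis (hd : 0 < d) {U : S.Opens} {e : Γ(L, U)} (he : Gen U e) :
    ∃ b : Module.Basis (Fin d) Γ(S, U) (ringOn φ.hom U), ∀ i, b i = root' φ U e ^ (i : ℕ) := by
  rcases subsingleton_or_nontrivial Γ(S, U) with hs | hs
  · haveI : Subsingleton (ringOn φ.hom U) := Module.subsingleton Γ(S, U) _
    exact ⟨default, fun _ => Subsingleton.elim _ _⟩
  obtain ⟨Ψ, hΨ⟩ := exists_equiv_root φ.hom U he
  have hm : (X ^ d - C (val φ.hom U e) : Γ(S, U)[X]).Monic := monic_X_pow_sub_C _ hd.ne'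
  have hdim : (AdjoinRoot.powerBasis' hm).dim = d := by
    rw [AdjoinRoot.powerBasis'_dim, natDegree_X_pow_sub_C]
  refine ⟨((AdjoinRoot.powerBasis' hm).basis.reindex (finCongr hdim)).map Ψ.toLinearEquiv, fun i => ?_⟩
  rw [Module.Basis.map_apply, Module.Basis.reindex_apply, PowerBasis.basis_eq_pow, AdjoinRoot.powerBasis'_gen]
  show Ψ (AdjoinRoot.root _ ^ (i : ℕ)) = _
  rw [map_pow, hΨ]

/-- The expansion in powers of the root. -/
def expand (U : S.Opens) (e : Γ(L, U)) (c : Fin d → Γ(S, U)) : ringOn φ.hom U :=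
  ∑ i, algebraMap Γ(S, U) (ringOn φ.hom U) (c i) * root' φ U e ^ (i : ℕ)

theorem bijective_expand (hd : 0 < d) {U : S.Opens} {e : Γ(L, U)} (he : Gen U e) :
    Function.Bijective (expand φ U e) := by
  obtain ⟨b, hb⟩ := exists_basis φ hd he
  have : expand φ U e = b.equivFun.symm := funext fun c => by
    rw [b.equivFun_symm_apply]
    exact Finset.sum_congr rfl fun i _ => by rw [hb]; exact (Algebra.smul_def (c i) _).symm
  rw [this]
  exact b.equivFun.symm.bijective

theorem res_expand {U V : S.Opens} (h : V ≤ U) (e : Γ(L, U)) (c : Fin d → Γ(S, U)) :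
    res φ.hom h (expand φ U e c) =
      expand φ V (L.presheaf.map (homOfLE h).op e) fun i => S.presheaf.map (homOfLE h).op (c i) := by
  rw [expand, map_sum]
  refine Finset.sum_congr rfl fun i _ => ?_
  rw [map_mul, map_pow, root', res_mk, RelSpecLib.symRes_ι]
  congr 1
  exact congrArg (Ideal.Quotient.mk _) (RelSpecLib.symRes_algebraMap L h (c i))

theorem expand_smul (U : S.Opens) (a : Γ(S, U)) (e : Γ(L, U)) (c : Fin d → Γ(S, U)) :
    expand φ U (a • e) c = expand φ U e fun i => c i * a ^ (i : ℕ) := by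
  refine Finset.sum_congr rfl fun i _ => ?_
  rw [root', root', map_smul, Algebra.smul_def, map_mul, mul_pow, ← mul_assoc, map_mul, map_pow]
  rfl

theorem eq_zero_or_one (hd : 0 < d) [IsIntegral S] (hfield : IsField Γ(S, ⊤)) (hL : PicF.IsInvertible L)
    (hmin : ∀ i : ℕ, 0 < i → i < d → IsEmpty (CohB1.tensorPow L i ≅ Coh.structureModule S))
    (z : Γ((data φ.hom).spec, ⊤)) (hz : IsIdempotentElem z) : z = 0 ∨ z = 1 := by
  classical
  obtain ⟨V, e, hV, hx, he⟩ := exists_charts hL
  let X' := (data φ.hom).spec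
  let π : X' ⟶ S := (data φ.hom).π
  let zz : ∀ x, Γ(X', π ⁻¹ᵁ (V x).1) := fun x =>
    X'.presheaf.map (homOfLE (le_top : π ⁻¹ᵁ (V x).1 ≤ ⊤)).op z
  choose c hc using fun x => (bijective_expand φ hd (he x)).2 ((data φ.hom).aff (V x) (zz x))
  choose η hηu hη using fun x y => ((he x).res (inf_le_left : (V x).1 ⊓ (V y).1 ≤ (V x).1)).exists_unit
    ((he y).res (inf_le_right : (V x).1 ⊓ (V y).1 ≤ (V y).1))
  -- on smaller charts the coefficients change by powers of the transition functions
  have key : ∀ (x y : S) (W : S.AffineZariskiSite) (h1 : W ≤ V x) (h2 : W ≤ V y) (i : Fin d),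
      S.presheaf.map (homOfLE (Scheme.AffineZariskiSite.toOpens_mono h2)).op (c y i) =
        S.presheaf.map (homOfLE (Scheme.AffineZariskiSite.toOpens_mono h1)).op (c x i) *
          S.presheaf.map (homOfLE (le_inf (Scheme.AffineZariskiSite.toOpens_mono h1)
            (Scheme.AffineZariskiSite.toOpens_mono h2))).op (η x y) ^ (i : ℕ) := by
    intro x y W h1 h2
    have hw : ∀ (v : S) (h : W ≤ V v),
        expand φ W.1 (L.presheaf.map (homOfLE (Scheme.AffineZariskiSite.toOpens_mono h)).op (e v))
          (fun i => S.presheaf.map (homOfLE (Scheme.AffineZariskiSite.toOpens_mono h)).op (c v i)) =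
          (data φ.hom).aff W (X'.presheaf.map (homOfLE (le_top : π ⁻¹ᵁ W.1 ≤ ⊤)).op z) := by
      intro v h
      rw [← res_expand, hc, ← aff_res φ h]
      exact congrArg _ (ring_res_res _ _ _)
    have e1 := (hw x h1).trans (hw y h2).symm
    have he' := congrArg (L.presheaf.map (homOfLE (le_inf (Scheme.AffineZariskiSite.toOpens_mono h1)
      (Scheme.AffineZariskiSite.toOpens_mono h2) : W.1 ≤ (V x).1 ⊓ (V y).1)).op) (hη x y)
    rw [L.map_smul, ParaFLib.res_res, ParaFLib.res_res] at he'
    rw [← he', expand_smul] at e1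
    intro i
    exact (congrFun ((bijective_expand φ hd ((he y).res (Scheme.AffineZariskiSite.toOpens_mono h2))).1 e1) i).symm
  -- the coefficients form sections of the powers
  have hglue : ∀ i : Fin d, ∃ σ : Γ(CohB1.tensorPow L (i : ℕ), ⊤), ∀ x,
      (CohB1.tensorPow L (i : ℕ)).presheaf.map (homOfLE (le_top : (V x).1 ≤ ⊤)).op σ =
        c x i • powLoc (e x) (i : ℕ) := by
    intro i
    let M := CohB1.tensorPow L (i : ℕ)
    let F : TopCat.Sheaf Ab.{u} S.carrier := ⟨M.presheaf, M.isSheaf⟩
    obtain ⟨σ, hσ, -⟩ := F.existsUnique_gluing' (fun x => (V x).1) ⊤ (fun _ => homOfLE le_top) hV.ge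
      (fun x => c x i • powLoc (e x) (i : ℕ)) (by
        intro x y
        refine F.eq_of_locally_eq' (fun W : {W : S.AffineZariskiSite // W ≤ V x ∧ W ≤ V y} => W.1.1) _
          (fun W => homOfLE (le_inf (Scheme.AffineZariskiSite.toOpens_mono W.2.1)
            (Scheme.AffineZariskiSite.toOpens_mono W.2.2)))
          (fun p hp => by
            obtain ⟨W, h1, h2, h3⟩ := exists_site_le hp.1 hp.2
            exact Opens.mem_iSup.2 ⟨⟨W, h2, h3⟩, h1⟩) _ _ fun W => ?_
        obtain ⟨W, h1, h2⟩ := W
        have hle : W.1 ≤ (V x).1 ⊓ (V y).1 :=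
          le_inf (Scheme.AffineZariskiSite.toOpens_mono h1) (Scheme.AffineZariskiSite.toOpens_mono h2)
        show M.presheaf.map (homOfLE hle).op (M.presheaf.map (homOfLE inf_le_left).op (c x i • powLoc (e x) (i : ℕ))) =
          M.presheaf.map (homOfLE hle).op (M.presheaf.map (homOfLE inf_le_right).op (c y i • powLoc (e y) (i : ℕ)))
        have he' := congrArg (L.presheaf.map (homOfLE hle).op) (hη x y)
        rw [L.map_smul, ParaFLib.res_res, ParaFLib.res_res] at he'
        rw [ParaFLib.res_res, ParaFLib.res_res, M.map_smul, M.map_smul, powLoc_res, powLoc_res, ← he', powLoc_smul,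
          key x y W h1 h2 i, mul_smul])
    exact ⟨σ, hσ⟩
  choose σ hσ using hglue
  -- positive degrees vanish
  have hpos : ∀ i : Fin d, 0 < (i : ℕ) → ∀ x, c x i = 0 := by
    intro i hi x
    let M := CohB1.tensorPow L (i : ℕ)
    have h0 : σ i = 0 := by
      by_contra hne
      let s := DCohLib.secHom M (σ i)
      have hs : s ≠ 0 := fun h => by
        have h1 := DCohLib.secHom_app_one M (σ i) ⊤
        rw [ParaFLib.res_self'] at h1
        exact hne (h1.symm.trans (by rw [show DCohLib.secHom M (σ i) = 0 from h]; rfl))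
      haveI := isIso_of_tensorPow_trivial hfield (isInvertible_tensorPow hL _) s hs d hd
        (powMul L i d ≪≫ eqToIso (by rw [mul_comm (i : ℕ) d]) ≪≫ (powMul L d i).symm ≪≫ powCongr φ i ≪≫ powUnit i)
      exact (hmin i hi i.2).false (asIso s).symm
    have h2 := hσ i x
    rw [h0, map_zero] at h2
    refine ((gen_powLoc (he x) (i : ℕ)) (V x).1 le_rfl).1 ?_
    show c x i • M.presheaf.map (homOfLE le_rfl).op (powLoc (e x) (i : ℕ)) =
      (0 : Γ(S, (V x).1)) • M.presheaf.map (homOfLE le_rfl).op (powLoc (e x) (i : ℕ))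
    rw [ParaFLib.res_self', zero_smul, ← h2]
  -- the constant term is a global function
  let i₀ : Fin d := ⟨0, hd⟩
  let a : Γ(S, ⊤) := σ i₀
  have ha : ∀ x, S.presheaf.map (homOfLE (le_top : (V x).1 ≤ ⊤)).op a = c x i₀ := fun x =>
    (hσ i₀ x).trans (mul_one (c x i₀))
  have hza : z = π.app ⊤ a := by
    refine TopCat.Sheaf.eq_of_locally_eq' X'.sheaf (fun x => π ⁻¹ᵁ (V x).1) ⊤ (fun x => homOfLE le_top)
      (fun p _ => Opens.mem_iSup.2 ⟨π p, hx (π p)⟩) _ _ fun x => ?_
    show zz x = X'.presheaf.map (homOfLE le_top).op (π.app ⊤ a)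
    refine Eq.trans ?_ (ConcreteCategory.congr_hom (π.naturality (homOfLE (le_top : (V x).1 ≤ ⊤)).op) a)
    show zz x = π.app (V x).1 (S.presheaf.map (homOfLE le_top).op a)
    rw [ha]
    refine aff_injective φ (V x) ?_
    rw [← hc x, aff_app, expand, Finset.sum_eq_single i₀ (fun i _ hne => by
      rw [hpos i (Nat.pos_of_ne_zero fun h => hne (Fin.ext h)) x, map_zero, zero_mul])
      (fun h => absurd (Finset.mem_univ _) h), pow_zero, mul_one]
  by_cases ha0 : a = 0
  · exact Or.inl (by rw [hza, ha0]; exact map_zero _)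
  · obtain ⟨b, hb⟩ := hfield.mul_inv_cancel ha0
    have hu : IsUnit z := by rw [hza]; exact (IsUnit.of_mul_eq_one b hb).map _
    exact Or.inr (hu.mul_left_cancel (hz.trans (mul_one z).symm))

end Groth.Agent.RootCoverLib
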