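import Groth.Agent.RelSpecLib.SymInv

/-! Symmetric algebras modulo a root relation `ι m ^ d = P m`. -/

set_option autoImplicit false
set_option backward.isDefEq.respectTransparency false
set_option linter.style.haveILetI false

universe u

open Polynomial

noncomputable section

namespace Groth.Agent.RootCoverLib

section Alg

variable {R : Type u} [CommRing R] {M : Type u} [AddCommGroup M] [Module R M] (P : M → R) (d : ℕ)

/-- The relation. -/
def rel (m : M) : SymmetricAlgebra R M :=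
  SymmetricAlgebra.ι R M m ^ d - algebraMap R (SymmetricAlgebra R M) (P m)

/-- The ideal of relations. -/
def relIdeal : Ideal (SymmetricAlgebra R M) := Ideal.span (Set.range (rel P d))

variable {P d}

theorem rel_smul (hP : ∀ (r : R) (m : M), P (r • m) = r ^ d * P m) (r : R) (m : M) :
    rel P d (r • m) = algebraMap R _ r ^ d * rel P d m := by
  rw [rel, rel, map_smul, hP, Algebra.smul_def, mul_pow, map_mul, map_pow, mul_sub]

theorem relIdeal_eq_span (hP : ∀ (r : R) (m : M), P (r • m) = r ^ d * P m) {e : M}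
    (he : Function.Bijective fun r : R => r • e) : relIdeal P d = Ideal.span {rel P d e} := by
  refine le_antisymm (Ideal.span_le.mpr ?_) (Ideal.span_mono (Set.singleton_subset_iff.mpr ⟨e, rfl⟩))
  rintro _ ⟨m, rfl⟩
  obtain ⟨r, rfl⟩ := he.2 m
  rw [rel_smul hP]
  exact Ideal.mul_mem_left _ _ (Ideal.subset_span rfl)

/-- With a generator, the quotient is obtained by adjoining a root. -/
theorem exists_equiv_adjoinRoot (hP : ∀ (r : R) (m : M), P (r • m) = r ^ d * P m) {e : M}
    (he : Function.Bijective fun r : R => r • e) :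
    ∃ Ψ : AdjoinRoot (X ^ d - C (P e)) ≃ₐ[R] (SymmetricAlgebra R M ⧸ relIdeal P d),
      Ψ (AdjoinRoot.root _) = Ideal.Quotient.mk _ (SymmetricAlgebra.ι R M e) := by
  let Φ : R[X] ≃ₐ[R] SymmetricAlgebra R M :=
    AlgEquiv.ofBijective (Polynomial.aeval (SymmetricAlgebra.ι R M e)) (RelSpecLib.bijective_aeval_ι he)
  have hI : relIdeal P d = (Ideal.span {X ^ d - C (P e)}).map (Φ : R[X] →+* SymmetricAlgebra R M) := by
    rw [relIdeal_eq_span hP he, Ideal.map_span, Set.image_singleton]
    congr 2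
    show rel P d e = Polynomial.aeval (SymmetricAlgebra.ι R M e) (X ^ d - C (P e))
    rw [map_sub, aeval_X_pow, aeval_C, rel]
  refine ⟨Ideal.quotientEquivAlg _ _ Φ hI, ?_⟩
  show Ideal.Quotient.mk _ (Φ X) = _
  congr 1
  exact aeval_X _

end Alg

/-- A quotient of a localization is a localization of the quotient. -/
theorem isLocalization_quotient {A B : Type u} [CommRing A] [CommRing B] [Algebra A B] (c : A)
    [IsLocalization.Away c B] (I : Ideal A) (J : Ideal B) (hJ : J = I.map (algebraMap A B)) :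
    letI := ((Ideal.Quotient.lift I ((Ideal.Quotient.mk J).comp (algebraMap A B)) fun a ha =>
      Ideal.Quotient.eq_zero_iff_mem.mpr (hJ ▸ Ideal.mem_map_of_mem _ ha)) : A ⧸ I →+* B ⧸ J).toAlgebra
    IsLocalization.Away (Ideal.Quotient.mk I c) (B ⧸ J) := by
  letI := ((Ideal.Quotient.lift I ((Ideal.Quotient.mk J).comp (algebraMap A B)) fun a ha =>
      Ideal.Quotient.eq_zero_iff_mem.mpr (hJ ▸ Ideal.mem_map_of_mem _ ha)) : A ⧸ I →+* B ⧸ J).toAlgebra
  have halg : ∀ a, algebraMap (A ⧸ I) (B ⧸ J) (Ideal.Quotient.mk I a) = Ideal.Quotient.mk J (algebraMap A B a) :=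
    fun a => rfl
  refine (isLocalization_iff _ _).mpr ⟨?_, ?_, ?_⟩
  · rintro ⟨_, n, rfl⟩
    show IsUnit (algebraMap (A ⧸ I) (B ⧸ J) (Ideal.Quotient.mk I c ^ n))
    rw [← map_pow, halg]
    exact (IsLocalization.map_units B (⟨c ^ n, n, rfl⟩ : Submonoid.powers c)).map _
  · intro z
    obtain ⟨b, rfl⟩ := Ideal.Quotient.mk_surjective z
    obtain ⟨⟨a, s, n, hn⟩, h⟩ := IsLocalization.surj (Submonoid.powers c) b
    refine ⟨⟨Ideal.Quotient.mk I a, Ideal.Quotient.mk I c ^ n, n, rfl⟩, ?_⟩
    show Ideal.Quotient.mk J b * algebraMap (A ⧸ I) (B ⧸ J) (Ideal.Quotient.mk I c ^ n) =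
      algebraMap (A ⧸ I) (B ⧸ J) (Ideal.Quotient.mk I a)
    rw [← map_pow, halg, halg, ← map_mul]
    subst hn
    exact congrArg _ h
  · intro x y h
    obtain ⟨x, rfl⟩ := Ideal.Quotient.mk_surjective x
    obtain ⟨y, rfl⟩ := Ideal.Quotient.mk_surjective y
    rw [halg, halg, Ideal.Quotient.eq, ← map_sub, hJ,
      IsLocalization.algebraMap_mem_map_algebraMap_iff (Submonoid.powers c) B] at h
    obtain ⟨m, ⟨n, rfl⟩, hm⟩ := h
    refine ⟨⟨Ideal.Quotient.mk I c ^ n, n, rfl⟩, ?_⟩
    show Ideal.Quotient.mk I c ^ n * _ = Ideal.Quotient.mk I c ^ n * _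
    rw [← map_pow, ← map_mul, ← map_mul, Ideal.Quotient.eq, ← mul_sub]
    exact hm

end Groth.Agent.RootCoverLib
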