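import Groth.Agent.RootCoverLib.Alg
import Groth.Agent.RelSpecLib.SymData
import Groth.Agent.AmpleLib.Extend
import Groth.Prelude.Def_Mor2
import Groth.Agent.CyclicCoverLib.Basic

/-! The cover of `d`-th roots of a trivialised tensor power of an invertible module. -/

set_option autoImplicit false
set_option linter.style.haveILetI false
set_option backward.isDefEq.respectTransparency false
set_option backward.isDefEq.respectTransparency.types false
set_option backward.defeqAttrib.useBackward true

universe u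

open CategoryTheory CategoryTheory.Limits AlgebraicGeometry TopologicalSpace Opposite Polynomial
open Groth.Agent.ParaFLib Groth.Agent.AmpleLib

noncomputable section

namespace Groth.Agent.RootCoverLib

variable {S : Scheme.{u}} {L : S.Modules} {d : ℕ} (φ : CohB1.tensorPow L d ⟶ Coh.structureModule S)

/-- The value of the trivialisation on a power of a section. -/
def val (U : S.Opens) (m : Γ(L, U)) : Γ(S, U) := φ.app U (powLoc m d)

theorem val_smul (U : S.Opens) (r : Γ(S, U)) (m : Γ(L, U)) : val φ U (r • m) = r ^ d * val φ U m := by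
  rw [val, powLoc_smul, Scheme.Modules.Hom.app_smul]
  rfl

theorem val_res {U V : S.Opens} (h : V ≤ U) (m : Γ(L, U)) :
    S.presheaf.map (homOfLE h).op (val φ U m) = val φ V (L.presheaf.map (homOfLE h).op m) := by
  rw [val, val, ← powLoc_res h, DCohLib.app_natural φ h]
  rfl

theorem symRes_rel {U V : S.Opens} (h : V ≤ U) (m : Γ(L, U)) :
    RelSpecLib.symRes L h (rel (val φ U) d m) = rel (val φ V) d (L.presheaf.map (homOfLE h).op m) := by
  rw [rel, rel, map_sub, map_pow, RelSpecLib.symRes_ι, RelSpecLib.symRes_algebraMap, val_res]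

/-- The ring over an open. -/
abbrev ringOn (U : S.Opens) : Type u := SymmetricAlgebra Γ(S, U) Γ(L, U) ⧸ relIdeal (val φ U) d

/-- The restriction. -/
def res {U V : S.Opens} (h : V ≤ U) : ringOn φ U →+* ringOn φ V :=
  Ideal.Quotient.lift (relIdeal (val φ U) d) ((Ideal.Quotient.mk _).comp (RelSpecLib.symRes L h)) (by
    refine fun a ha => ?_
    have hle : relIdeal (val φ U) d ≤
        RingHom.ker ((Ideal.Quotient.mk (relIdeal (val φ V) d)).comp (RelSpecLib.symRes L h)) := by
      refine Ideal.span_le.mpr ?_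
      rintro _ ⟨m, rfl⟩
      rw [SetLike.mem_coe, RingHom.mem_ker, RingHom.comp_apply, symRes_rel, Ideal.Quotient.eq_zero_iff_mem]
      exact Ideal.subset_span ⟨_, rfl⟩
    exact hle ha)

theorem res_mk {U V : S.Opens} (h : V ≤ U) (z : SymmetricAlgebra Γ(S, U) Γ(L, U)) :
    res φ h (Ideal.Quotient.mk _ z) = Ideal.Quotient.mk _ (RelSpecLib.symRes L h z) := rfl

theorem relIdeal_basicOpen [Coh.IsQCoh L] {U : S.Opens} (hU : IsAffineOpen U) (f : Γ(S, U)) :
    relIdeal (val φ (S.basicOpen f)) d = (relIdeal (val φ U) d).map (RelSpecLib.symRes L (S.basicOpen_le f)) := by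
  have hle : S.basicOpen f ≤ U := S.basicOpen_le f
  refine le_antisymm (Ideal.span_le.mpr ?_) ?_
  · rintro _ ⟨m', rfl⟩
    obtain ⟨n, m, hm⟩ := (QCohLib.locAt L hU).extend f m'
    have hm' : S.presheaf.map (homOfLE hle).op f ^ n • m' = L.presheaf.map (homOfLE hle).op m := by
      rw [← map_pow]
      exact hm.symm
    have h1 : rel (val φ (S.basicOpen f)) d (L.presheaf.map (homOfLE hle).op m) ∈
        (relIdeal (val φ U) d).map (RelSpecLib.symRes L hle) := by
      rw [← symRes_rel φ hle m]
      exact Ideal.mem_map_of_mem _ (Ideal.subset_span ⟨m, rfl⟩)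
    rw [← hm', rel_smul (val_smul φ _)] at h1
    have hu : IsUnit (S.presheaf.map (homOfLE hle).op f) := RingedSpace.isUnit_res_basicOpen S.toRingedSpace f
    exact (Ideal.unit_mul_mem_iff_mem _ (((hu.pow n).map _).pow d)).mp h1
  · rw [Ideal.map_le_iff_le_comap, relIdeal, Ideal.span_le]
    rintro _ ⟨m, rfl⟩
    rw [SetLike.mem_coe, Ideal.mem_comap, symRes_rel φ hle m]
    exact Ideal.subset_span ⟨_, rfl⟩

theorem isLocalization_res [Coh.IsQCoh L] {U : S.Opens} (hU : IsAffineOpen U) (f : Γ(S, U)) :
    letI := (res φ (S.basicOpen_le f)).toAlgebra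
    IsLocalization.Away (algebraMap Γ(S, U) (ringOn φ U) f) (ringOn φ (S.basicOpen f)) := by
  letI : Algebra (SymmetricAlgebra Γ(S, U) Γ(L, U)) (SymmetricAlgebra Γ(S, S.basicOpen f) Γ(L, S.basicOpen f)) :=
    (RelSpecLib.symRes L (S.basicOpen_le f)).toAlgebra
  haveI : IsLocalization.Away (algebraMap Γ(S, U) (SymmetricAlgebra Γ(S, U) Γ(L, U)) f)
      (SymmetricAlgebra Γ(S, S.basicOpen f) Γ(L, S.basicOpen f)) := (RelSpecLib.symData L).loc ⟨U, hU⟩ f
  exact isLocalization_quotient (A := SymmetricAlgebra Γ(S, U) Γ(L, U))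
    (B := SymmetricAlgebra Γ(S, S.basicOpen f) Γ(L, S.basicOpen f))
    (algebraMap Γ(S, U) (SymmetricAlgebra Γ(S, U) Γ(L, U)) f) _ _ (relIdeal_basicOpen φ hU f)

/-- The rings over affine opens. -/
def data [Coh.IsQCoh L] : RelSpecLib.AffData S where
  F :=
    { obj := fun U => CommRingCat.of (ringOn φ U.unop.1)
      map := fun {U V} i => CommRingCat.ofHom (res φ (Scheme.AffineZariskiSite.toOpens_mono i.unop.le))
      map_id := fun U => CommRingCat.hom_ext (Ideal.Quotient.ringHom_ext (RingHom.ext fun z => by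
        show res φ (le_refl U.unop.1) (Ideal.Quotient.mk _ z) = Ideal.Quotient.mk _ z
        rw [res_mk, RelSpecLib.symRes_self]
        rfl))
      map_comp := fun {U V W} i k => CommRingCat.hom_ext (Ideal.Quotient.ringHom_ext (RingHom.ext fun z => by
        show res φ _ (Ideal.Quotient.mk _ z) = res φ _ (res φ _ (Ideal.Quotient.mk _ z))
        rw [res_mk, res_mk, res_mk, ← RingHom.comp_apply (RelSpecLib.symRes L _), RelSpecLib.symRes_comp])) }
  α :=
    { app := fun U => CommRingCat.ofHom (algebraMap Γ(S, U.unop.1) (ringOn φ U.unop.1))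
      naturality := fun U V i => CommRingCat.hom_ext (RingHom.ext fun r =>
        ((res_mk φ (Scheme.AffineZariskiSite.toOpens_mono i.unop.le) _).trans
          (congrArg (Ideal.Quotient.mk _) (RelSpecLib.symRes_algebraMap L
            (Scheme.AffineZariskiSite.toOpens_mono i.unop.le) r))).symm) }
  loc U f := isLocalization_res φ U.2 f

variable [Coh.IsQCoh L]

theorem isPullback_chart (U : S.AffineZariskiSite) :
    IsPullback ((data φ).ι U) (Spec.map ((data φ).α.app (op U))) (data φ).π U.2.fromSpec :=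
  (IsOpenImmersion.isPullback (Spec.map ((data φ).α.app (op U))) ((data φ).ι U) U.2.fromSpec (data φ).π
    ((data φ).ι_π U) (by
      rw [IsAffineOpen.opensRange_fromSpec]
      exact (data φ).π_preimage U)).flip

theorem exists_equiv_root (U : S.Opens) {e : Γ(L, U)} (he : Gen U e) :
    ∃ Ψ : AdjoinRoot (X ^ d - C (val φ U e)) ≃ₐ[Γ(S, U)] ringOn φ U,
      Ψ (AdjoinRoot.root _) = Ideal.Quotient.mk _ (SymmetricAlgebra.ι _ _ e) :=
  exists_equiv_adjoinRoot (val_smul φ U) (RelSpecLib.bijective_smul_of_gen he)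

section Cover

variable {ι : Type u} (V : ι → S.AffineZariskiSite) (hV : iSup (fun i => (V i).1) = ⊤)

include hV in
theorem target_local (P : MorphismProperty Scheme.{u}) [IsZariskiLocalAtTarget P]
    (h : ∀ i, P (Spec.map ((data φ).α.app (op (V i))))) : P (data φ).π := by
  refine IsZariskiLocalAtTarget.of_openCover (P := P)
    (Scheme.Cover.mkOfCovers ι (fun i => Spec Γ(S, (V i).1)) (fun i => (V i).2.fromSpec) (fun y => by
      obtain ⟨i, hi⟩ := Opens.mem_iSup.1 (hV.ge (Opens.mem_top y))
      exact ⟨i, (IsAffineOpen.range_fromSpec (V i).2).ge hi⟩) (fun i => inferInstance)) fun i => ?_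
  show P (pullback.snd (data φ).π (V i).2.fromSpec)
  rw [← (isPullback_chart φ (V i)).isoPullback_inv_snd]
  exact (P.cancel_left_of_respectsIso _ _).mpr (h i)

end Cover

end Groth.Agent.RootCoverLib
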