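import Groth.Agent.RootCoverLib.Data
import Groth.Agent.AmpleEmb.ComposeRel
import Groth.Agent.PicRootLib.Main

/-! Properties of the root cover: finite locally free of degree `d`, etale, trivialising, connected. -/

set_option autoImplicit false
set_option linter.style.haveILetI false
set_option backward.isDefEq.respectTransparency false
set_option backward.isDefEq.respectTransparency.types false
set_option backward.defeqAttrib.useBackward true

universe u

open CategoryTheory CategoryTheory.Limits AlgebraicGeometry TopologicalSpace Opposite Polynomial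
open Groth.Agent.ParaFLib Groth.Agent.AmpleLib Groth.Agent.PullbackMod

noncomputable section

namespace Groth.Agent.RootCoverLib

variable {S : Scheme.{u}} {L : S.Modules} {d : ℕ} (φ : CohB1.tensorPow L d ≅ Coh.structureModule S)

theorem ring_res_res {Y : Scheme.{u}} {a b c : Y.Opens} (h₁ : b ≤ a) (h₂ : c ≤ b) (z : Γ(Y, a)) :
    Y.presheaf.map (homOfLE h₂).op (Y.presheaf.map (homOfLE h₁).op z) = Y.presheaf.map (homOfLE (h₂.trans h₁)).op z := by
  rw [← ConcreteCategory.comp_apply, ← Functor.map_comp]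
  rfl

theorem exists_charts (hL : PicF.IsInvertible L) :
    ∃ (V : S → S.AffineZariskiSite) (e : ∀ x, Γ(L, (V x).1)), iSup (fun x => (V x).1) = ⊤ ∧ (∀ x, x ∈ (V x).1) ∧
      ∀ x, Gen (V x).1 (e x) := by
  have loc : ∀ x : S, ∃ (U : S.AffineZariskiSite) (e : Γ(L, U.1)), x ∈ U.1 ∧ Gen U.1 e := by
    intro x
    obtain ⟨W, e, hxW, he⟩ := exists_gen_nhd hL x
    obtain ⟨U, hU, hxU, hle⟩ := exists_isAffineOpen_mem_and_subset hxW
    exact ⟨⟨U, hU⟩, _, hxU, he.res hle⟩
  choose V e hx he using loc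
  exact ⟨V, e, top_unique fun x _ => Opens.mem_iSup.2 ⟨x, hx x⟩, hx, he⟩

theorem isUnit_val {U : S.Opens} {e : Γ(L, U)} (he : Gen U e) : IsUnit (val φ.hom U e) := by
  obtain ⟨h, hu, hh⟩ := (PicRootLib.gen_iso φ (gen_powLoc he d)).exists_unit (gen_one U)
  have : val φ.hom U e = h := by
    show φ.hom.app U (powLoc e d) = h
    rw [← hh]
    exact mul_one h
  rw [this]; exact hu

theorem free_chart (hd : 0 < d) [Coh.IsQCoh L] {U : S.Opens} {e : Γ(L, U)} (he : Gen U e) :
    Module.Finite Γ(S, U) (ringOn φ.hom U) ∧ Module.Free Γ(S, U) (ringOn φ.hom U) ∧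
      (Nontrivial Γ(S, U) → Module.finrank Γ(S, U) (ringOn φ.hom U) = d) := by
  obtain ⟨Ψ, -⟩ := exists_equiv_root φ.hom U he
  have hm : (X ^ d - C (val φ.hom U e) : Γ(S, U)[X]).Monic := monic_X_pow_sub_C _ hd.ne'
  haveI := hm.finite_adjoinRoot
  haveI := hm.free_adjoinRoot
  refine ⟨Module.Finite.equiv Ψ.toLinearEquiv, Module.Free.of_equiv Ψ.toLinearEquiv, fun _ => ?_⟩
  rw [← Ψ.toLinearEquiv.finrank_eq, (AdjoinRoot.powerBasis' hm).finrank, AdjoinRoot.powerBasis'_dim,
    natDegree_X_pow_sub_C]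

variable [Coh.IsQCoh L]

theorem finLocFreeOfDeg (hd : 0 < d) (hL : PicF.IsInvertible L) :
    Mor2.IsFinLocFreeOfDeg d (data φ.hom).π := by
  obtain ⟨V, e, hV, hx, he⟩ := exists_charts hL
  have hfin : ∀ x, (algebraMap Γ(S, (V x).1) (ringOn φ.hom (V x).1)).Finite := fun x =>
    RingHom.finite_algebraMap.mpr (free_chart φ hd (he x)).1
  have hflat : ∀ x, (algebraMap Γ(S, (V x).1) (ringOn φ.hom (V x).1)).Flat := fun x => by
    haveI := (free_chart φ hd (he x)).2.1
    exact RingHom.flat_algebraMap_iff.mpr inferInstance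
  have h1 : IsFinite (data φ.hom).π :=
    target_local φ.hom V hV @IsFinite fun x => (IsFinite.SpecMap_iff _).mpr (hfin x)
  have h2 : Flat (data φ.hom).π :=
    target_local φ.hom V hV @Flat fun x => Flat.SpecMap_iff.mpr (hflat x)
  have h3 : LocallyOfFinitePresentation (data φ.hom).π := by
    refine target_local φ.hom V hV @LocallyOfFinitePresentation fun x =>
      (HasRingHomProperty.Spec_iff (P := @LocallyOfFinitePresentation)).mpr ?_
    haveI := (free_chart φ hd (he x)).1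
    haveI := (free_chart φ hd (he x)).2.1
    haveI : Module.FinitePresentation Γ(S, (V x).1) (ringOn φ.hom (V x).1) :=
      Module.finitePresentation_of_projective _ _
    exact (RingHom.finitePresentation_algebraMap (A := Γ(S, (V x).1)) (B := ringOn φ.hom (V x).1)).mpr inferInstance
  refine ⟨⟨h1, h2, h3⟩, fun y => ?_⟩
  haveI := h1
  haveI := h2
  obtain ⟨p, hp⟩ : y ∈ Set.range (V y).2.fromSpec := (IsAffineOpen.range_fromSpec (V y).2).ge (hx y)
  rw [← hp]
  refine (Scheme.Hom.finrank_of_isPullback _ _ _ _ (isPullback_chart φ.hom (V y)) p).symm.trans ?_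
  haveI : Nonempty (V y).1.toScheme := ⟨⟨y, hx y⟩⟩
  haveI := (free_chart φ hd (he y)).1
  haveI := (free_chart φ hd (he y)).2.1
  show Scheme.Hom.finrank (Spec.map (CommRingCat.ofHom (algebraMap Γ(S, (V y).1) (ringOn φ.hom (V y).1)))) p = d
  rw [Scheme.Hom.finrank_SpecMap_algebraMap, Module.rankAtStalk_eq_finrank_of_free]
  exact (free_chart φ hd (he y)).2.2 (p.nontrivial)

theorem etale (hd : 0 < d) (hL : PicF.IsInvertible L) (hu : IsUnit ((d : ℕ) : Γ(S, ⊤))) :
    Etale (data φ.hom).π := by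
  obtain ⟨V, e, hV, hx, he⟩ := exists_charts hL
  refine target_local φ.hom V hV @Etale fun x => (HasRingHomProperty.Spec_iff (P := @Etale)).mpr ?_
  obtain ⟨Ψ, -⟩ := exists_equiv_root φ.hom (V x).1 (he x)
  haveI := CyclicCoverLib.etale_adjoinRoot Γ(S, (V x).1) _ (isUnit_val φ (he x)) d hd
    (by simpa using hu.map (S.presheaf.map (homOfLE (le_top : (V x).1 ≤ ⊤)).op).hom)
  haveI := Algebra.Etale.of_equiv Ψ
  exact (RingHom.etale_algebraMap (R := Γ(S, (V x).1)) (S := ringOn φ.hom (V x).1)).mpr inferInstance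

/-- The root over a chart, as a function on the cover. -/
def rootFun (U : S.AffineZariskiSite) (e : Γ(L, U.1)) : Γ((data φ.hom).spec, (data φ.hom).π ⁻¹ᵁ U.1) :=
  (asIso ((data φ.hom).aff U)).inv (Ideal.Quotient.mk _ (SymmetricAlgebra.ι Γ(S, U.1) Γ(L, U.1) e))

theorem aff_rootFun (U : S.AffineZariskiSite) (e : Γ(L, U.1)) :
    (data φ.hom).aff U (rootFun φ U e) = Ideal.Quotient.mk _ (SymmetricAlgebra.ι Γ(S, U.1) Γ(L, U.1) e) := by
  show ((asIso ((data φ.hom).aff U)).inv ≫ (data φ.hom).aff U) _ = _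
  rw [asIso_inv, IsIso.inv_hom_id]
  rfl

theorem aff_injective (U : S.AffineZariskiSite) : Function.Injective ((data φ.hom).aff U) :=
  (ConcreteCategory.bijective_of_isIso ((data φ.hom).aff U)).1

theorem aff_app (U : S.AffineZariskiSite) (r : Γ(S, U.1)) :
    (data φ.hom).aff U ((data φ.hom).π.app U.1 r) = algebraMap Γ(S, U.1) (ringOn φ.hom U.1) r :=
  ConcreteCategory.congr_hom ((data φ.hom).str_aff U) r

theorem aff_res {U V : S.AffineZariskiSite} (h : V ≤ U) (z : Γ((data φ.hom).spec, (data φ.hom).π ⁻¹ᵁ U.1)) :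
    (data φ.hom).aff V ((data φ.hom).spec.presheaf.map (homOfLE ((data φ.hom).π.preimage_mono
      (Scheme.AffineZariskiSite.toOpens_mono h))).op z) =
      res φ.hom (Scheme.AffineZariskiSite.toOpens_mono h) ((data φ.hom).aff U z) :=
  ConcreteCategory.congr_hom ((data φ.hom).affNat.naturality (homOfLE h).op) z

theorem rootFun_res {U V : S.AffineZariskiSite} (h : V ≤ U) (e : Γ(L, U.1)) :
    (data φ.hom).spec.presheaf.map (homOfLE ((data φ.hom).π.preimage_mono
      (Scheme.AffineZariskiSite.toOpens_mono h))).op (rootFun φ U e) =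
      rootFun φ V (L.presheaf.map (homOfLE (Scheme.AffineZariskiSite.toOpens_mono h)).op e) :=
  aff_injective φ V (by rw [aff_res φ h, aff_rootFun, aff_rootFun, res_mk, RelSpecLib.symRes_ι])

theorem rootFun_smul (U : S.AffineZariskiSite) (a : Γ(S, U.1)) (e : Γ(L, U.1)) :
    rootFun φ U (a • e) = (data φ.hom).π.app U.1 a * rootFun φ U e :=
  aff_injective φ U (by
    rw [map_mul, aff_rootFun, aff_rootFun, aff_app, map_smul, Algebra.smul_def, map_mul]
    rfl)

theorem isUnit_rootFun (hd : 0 < d) (U : S.AffineZariskiSite) {e : Γ(L, U.1)} (he : Gen U.1 e) :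
    IsUnit (rootFun φ U e) := by
  refine (isUnit_pow_iff hd.ne').mp ?_
  have h : rootFun φ U e ^ d = (data φ.hom).π.app U.1 (val φ.hom U.1 e) := aff_injective φ U (by
    rw [map_pow, aff_rootFun, aff_app]
    refine (map_pow (Ideal.Quotient.mk (relIdeal (val φ.hom U.1) d)) _ d).symm.trans ?_
    show _ = Ideal.Quotient.mk _ (algebraMap _ _ _)
    rw [Ideal.Quotient.eq]
    exact Ideal.subset_span ⟨e, rfl⟩)
  rw [h]
  exact (isUnit_val φ he).map _

/-- Affine opens below two given ones, in the affine site. -/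
theorem exists_site_le {U U' : S.AffineZariskiSite} {x : S} (h : x ∈ U.1) (h' : x ∈ U'.1) :
    ∃ W : S.AffineZariskiSite, x ∈ W.1 ∧ W ≤ U ∧ W ≤ U' := by
  obtain ⟨f, g, hfg, hxf⟩ := exists_basicOpen_le_affine_inter U.2 U'.2 x ⟨h, h'⟩
  refine ⟨U.basicOpen f, hxf, U.basicOpen_le f, ?_⟩
  convert U'.basicOpen_le g using 1
  exact Subtype.ext hfg

theorem pullback_trivial (hd : 0 < d) (hL : PicF.IsInvertible L) :
    Nonempty ((Scheme.Modules.pullback (data φ.hom).π).obj L ≅ Coh.structureModule (data φ.hom).spec) := by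
  obtain ⟨V, e, hV, hx, he⟩ := exists_charts hL
  let X' := (data φ.hom).spec
  let π : X' ⟶ S := (data φ.hom).π
  let W : S → X'.Opens := fun x => π ⁻¹ᵁ (V x).1
  have hW : iSup W = ⊤ := top_unique fun y _ => Opens.mem_iSup.2 ⟨π y, hx (π y)⟩
  have hη : ∀ x y, ∃ a : Γ(S, (V x).1 ⊓ (V y).1), IsUnit a ∧
      a • L.presheaf.map (homOfLE (inf_le_right : (V x).1 ⊓ (V y).1 ≤ (V y).1)).op (e y) =
        L.presheaf.map (homOfLE (inf_le_left : (V x).1 ⊓ (V y).1 ≤ (V x).1)).op (e x) := fun x y =>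
    ((he x).res inf_le_left).exists_unit ((he y).res (inf_le_right : (V x).1 ⊓ (V y).1 ≤ (V y).1))
  choose η hηu hη using hη
  let η' : ∀ x y, Γ(X', W x ⊓ W y) := fun x y => (π.app ((V x).1 ⊓ (V y).1)).hom (η x y)
  have hη' : ∀ x y, η' x y = (π.appLE ((V x).1 ⊓ (V y).1) (W x ⊓ W y) le_rfl).hom (η x y) := fun x y => by
    show (π.app ((V x).1 ⊓ (V y).1)).hom (η x y) = _
    rw [Scheme.Hom.app_eq_appLE]
    rfl
  let one : ∀ O : X'.Opens, Γ(Coh.structureModule X', O) := fun O => (1 : Γ(X', O))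
  have one_res : ∀ {A B : X'.Opens} (hAB : B ≤ A),
      (Coh.structureModule X').presheaf.map (homOfLE hAB).op (one A) = one B :=
    fun hAB => map_one (X'.presheaf.map (homOfLE hAB).op).hom
  refine nonempty_iso_of_bases hW (s := fun x => pullMap π L le_rfl (e x))
    (t := fun x => rootFun φ (V x) (e x) • one (W x)) (fun x => AmpleEmb.gen_pullMap π hL (he x))
    (fun x => (gen_one (W x)).smul (isUnit_rootFun φ hd (V x) (he x))) η' (fun x y => ?_) (fun x y => ?_)
  · rw [pullMap_res π L _ (inf_le_left : (V x).1 ⊓ (V y).1 ≤ (V x).1) inf_le_left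
      (le_rfl : W x ⊓ W y ≤ π ⁻¹ᵁ ((V x).1 ⊓ (V y).1)),
      pullMap_res π L _ (inf_le_right : (V x).1 ⊓ (V y).1 ≤ (V y).1) inf_le_right
      (le_rfl : W x ⊓ W y ≤ π ⁻¹ᵁ ((V x).1 ⊓ (V y).1)), ← hη x y, pullMap_smul, hη']
  · rw [(Coh.structureModule X').map_smul, (Coh.structureModule X').map_smul, one_res, one_res, ← mul_smul]
    congr 1
    refine TopCat.Sheaf.eq_of_locally_eq' X'.sheaf
      (fun W₀ : {W₀ : S.AffineZariskiSite // W₀ ≤ V x ∧ W₀ ≤ V y} => π ⁻¹ᵁ W₀.1.1) (W x ⊓ W y)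
      (fun W₀ => homOfLE (le_inf (π.preimage_mono (Scheme.AffineZariskiSite.toOpens_mono W₀.2.1))
        (π.preimage_mono (Scheme.AffineZariskiSite.toOpens_mono W₀.2.2))))
      (fun p hp => by
        obtain ⟨W₀, h1, h2, h3⟩ := exists_site_le hp.1 hp.2
        exact Opens.mem_iSup.2 ⟨⟨W₀, h2, h3⟩, h1⟩) _ _ fun W₀ => ?_
    obtain ⟨W₀, h1, h2⟩ := W₀
    have hle : W₀.1 ≤ (V x).1 ⊓ (V y).1 :=
      le_inf (Scheme.AffineZariskiSite.toOpens_mono h1) (Scheme.AffineZariskiSite.toOpens_mono h2)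
    show X'.presheaf.map (homOfLE (π.preimage_mono hle)).op
        (X'.presheaf.map (homOfLE (inf_le_left : W x ⊓ W y ≤ W x)).op (rootFun φ (V x) (e x))) =
      X'.presheaf.map (homOfLE (π.preimage_mono hle)).op
        (η' x y * X'.presheaf.map (homOfLE (inf_le_right : W x ⊓ W y ≤ W y)).op (rootFun φ (V y) (e y)))
    rw [map_mul]
    refine ((ring_res_res (inf_le_left : W x ⊓ W y ≤ W x) (π.preimage_mono hle) _).trans
      (rootFun_res φ h1 (e x))).trans (Eq.trans ?_ (congrArg (_ * ·)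
        ((ring_res_res (inf_le_right : W x ⊓ W y ≤ W y) (π.preimage_mono hle) _).trans
          (rootFun_res φ h2 (e y))).symm))
    have hres : X'.presheaf.map (homOfLE (π.preimage_mono hle)).op (η' x y) =
        π.app W₀.1 (S.presheaf.map (homOfLE hle).op (η x y)) :=
      (ConcreteCategory.congr_hom (π.naturality (homOfLE hle).op) (η x y)).symm
    rw [hres, ← rootFun_smul]
    congr 1
    rw [← ParaFLib.res_res (inf_le_left : (V x).1 ⊓ (V y).1 ≤ (V x).1) hle (e x), ← hη x y, L.map_smul,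
      ParaFLib.res_res]

end Groth.Agent.RootCoverLib
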